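import Mathlib.Algebra.CharP.Lemmas
import Mathlib.Algebra.CharP.Algebra
import Mathlib.FieldTheory.Perfect
import Mathlib.Algebra.CharP.Frobenius
import Mathlib.GroupTheory.FiniteAbelian.Basic
import Mathlib.Tactic.Abel
import Mathlib.Data.Fintype.Card
import Mathlib.SetTheory.Cardinal.Finite

/-! Unbounded finite subgroups of `Aˣ/kˣ` from an element with inseparable minimal polynomial. -/

universe u v

open Module

namespace GrothLib.BddFin21

theorem unbounded {k : Type u} [Field k] [Infinite k] {p : ℕ} [Fact p.Prime] [CharP k p]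
    {A : Type v} [Ring A] [Algebra k A] {Q : Type*} [Group Q] (ξ : Aˣ →* Q)
    (hker : ξ.ker = (Units.map (algebraMap k A : k →* A)).range) (x : A)
    (hx : x ∉ (algebraMap k A).range) (hxp : x ^ p ∈ (algebraMap k A).range) (N : ℕ) :
    ∃ G : Subgroup Q, Finite G ∧ N < Nat.card G := by
  classical
  obtain ⟨t, ht⟩ := hxp
  have hA : Nontrivial A := by
    by_contra h
    rw [not_nontrivial_iff_subsingleton] at h
    exact hx ⟨0, Subsingleton.elim _ _⟩
  have : CharP A p := charP_of_injective_algebraMap (algebraMap k A).injective p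
  have hfin : {c : k | c ^ p + t = 0}.Finite := by
    refine Set.Subsingleton.finite fun c hc c' hc' => frobenius_inj k p ?_
    show c ^ p = c' ^ p
    rw [eq_neg_of_add_eq_zero_left hc, eq_neg_of_add_eq_zero_left hc']
  obtain ⟨s, hs, hcard⟩ := (hfin.infinite_compl).exists_subset_card_eq (N + 1)
  have hpow : ∀ c : k, (algebraMap k A c + x) ^ p = algebraMap k A (c ^ p + t) := fun c => by
    rw [add_pow_char_of_commute p (Algebra.commute_algebraMap_left c x), map_add, map_pow, ht]
  have hu : ∀ c ∈ s, IsUnit (algebraMap k A c + x) := fun c hc => by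
    rw [← isUnit_pow_iff (Nat.Prime.ne_zero (Fact.out : p.Prime)), hpow]
    exact (isUnit_iff_ne_zero.mpr (hs hc)).map _
  let q : s → Q := fun c => ξ (hu c c.2).unit
  have hqp : ∀ c, q c ^ p = 1 := fun c => by
    rw [← map_pow, ← MonoidHom.mem_ker, hker]
    refine ⟨Units.mk0 _ (hs c.2), Units.ext ?_⟩
    simp [hpow]
  have hcomm : ∀ c c', q c * q c' = q c' * q c := fun c c' => by
    rw [← map_mul, ← map_mul]
    congr 1
    refine Units.ext ?_
    show (algebraMap k A c + x) * (algebraMap k A c' + x) = (algebraMap k A c' + x) * (algebraMap k A c + x)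
    exact ((Algebra.commute_algebraMap_left (c : k) _).add_left
      ((Algebra.commute_algebraMap_right (c' : k) x).add_right (Commute.refl x))).eq
  have hinj : Function.Injective q := fun c c' h => by
    have h1 : ξ ((hu c c.2).unit * ((hu c' c'.2).unit)⁻¹) = 1 := by
      rw [map_mul, map_inv, mul_inv_eq_one]; exact h
    rw [← MonoidHom.mem_ker, hker] at h1
    obtain ⟨u, hu'⟩ := h1
    rw [eq_mul_inv_iff_mul_eq, ← Units.val_inj] at hu'
    replace hu' : algebraMap k A (u : k) * (algebraMap k A c' + x) = algebraMap k A c + x := by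
      simpa using hu'
    by_cases hu1 : (u : k) = 1
    · rw [hu1, map_one, one_mul, add_left_inj] at hu'
      exact (Subtype.ext ((algebraMap k A).injective hu')).symm
    · refine absurd ⟨((u : k) - 1)⁻¹ * ((c : k) - (u : k) * (c' : k)), ?_⟩ hx
      have h2 : algebraMap k A ((u : k) - 1) * x = algebraMap k A ((c : k) - (u : k) * (c' : k)) := by
        rw [map_sub, map_sub, map_one, sub_mul, one_mul, map_mul]
        rw [mul_add] at hu'
        rw [eq_sub_of_add_eq' hu']
        abel
      rw [map_mul, ← h2, ← mul_assoc, ← map_mul, inv_mul_cancel₀ (sub_ne_zero.mpr hu1), map_one, one_mul]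
  let G := Subgroup.closure (Set.range q)
  letI hG : CommGroup G :=
    Subgroup.closureCommGroupOfComm (fun a ⟨c, hc⟩ b ⟨c', hc'⟩ => hc ▸ hc' ▸ hcomm c c')
  have : Group.FG G := (Group.fg_iff_subgroup_fg G).mpr ⟨Finset.univ.image q, by simp [G]⟩
  have htor : IsMulTorsion G := fun g => by
    refine isOfFinOrder_iff_pow_eq_one.mpr ⟨p, Nat.Prime.pos Fact.out, ?_⟩
    obtain ⟨g, hg⟩ := g
    refine Subtype.ext ?_
    show g ^ p = 1
    have : ∀ y ∈ G, y ^ p = 1 ∧ ∀ c, q c * y = y * q c := fun y hy => by
      induction hy using Subgroup.closure_induction with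
      | mem z hz => obtain ⟨c, rfl⟩ := hz; exact ⟨hqp c, fun c' => hcomm c' c⟩
      | one => simp
      | mul y z hy hz ihy ihz =>
        refine ⟨?_, fun c => Commute.mul_right (ihy.2 c) (ihz.2 c)⟩
        have hc : Commute y z := by
          have := congrArg Subtype.val (hG.mul_comm ⟨y, hy⟩ ⟨z, hz⟩)
          exact this
        rw [hc.mul_pow, ihy.1, ihz.1, one_mul]
      | inv y _ ihy => exact ⟨by rw [inv_pow, ihy.1, inv_one], fun c => Commute.inv_right (ihy.2 c)⟩
    exact (this g hg).1
  have hfinG : Finite G := CommGroup.finite_of_fg_isMulTorsion G htor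
  refine ⟨G, hfinG, ?_⟩
  have h2 := Nat.card_le_card_of_injective (fun c => (⟨q c, Subgroup.subset_closure ⟨c, rfl⟩⟩ : G))
    (fun c c' h => hinj (congrArg Subtype.val h))
  rw [Nat.card_eq_finsetCard, hcard] at h2
  omega

end GrothLib.BddFin21
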